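import Cfsg.Agent.Lib.Helper73.HA.Defs
import Cfsg.Agent.Lib.Helper73.HT.Main4

/-!
# Project HA, package STRUCT-SEVEN (helper27)
-/

set_option autoImplicit false

namespace Cfsg.Agent.Lib.Helper27.HA

open Equiv
open Cfsg.Agent.Lib.Helper73.HT

universe u

theorem arith_144 {a b : ℕ} (hab : a * b = 5040) (h5 : ¬ 5 ∣ a) (h7 : ¬ 7 ∣ a)
    (i2 : ¬ 2 ∣ b) (i3 : ¬ 3 ∣ b) : a = 144 := by
  have ha35 : Nat.Coprime a 35 := by
    have h35 : (35 : ℕ) = 5 * 7 := by norm_num
    rw [h35]
    exact Nat.Coprime.mul_right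
      ((Nat.Prime.coprime_iff_not_dvd (by norm_num)).mpr h5).symm
      ((Nat.Prime.coprime_iff_not_dvd (by norm_num)).mpr h7).symm
  have hb144 : Nat.Coprime b 144 := by
    have h144 : (144 : ℕ) = 2 ^ 4 * 3 ^ 2 := by norm_num
    rw [h144]
    exact Nat.Coprime.mul_right
      (Nat.Coprime.pow_right 4 ((Nat.Prime.coprime_iff_not_dvd Nat.prime_two).mpr i2).symm)
      (Nat.Coprime.pow_right 2 ((Nat.Prime.coprime_iff_not_dvd Nat.prime_three).mpr i3).symm)
  have ha : a ∣ 144 := by
    have h1 : a ∣ 144 * 35 := ⟨b, by rw [hab]⟩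
    exact ha35.dvd_of_dvd_mul_right h1
  have hb : b ∣ 35 := by
    have h1 : b ∣ 144 * 35 := ⟨a, by rw [mul_comm b a, hab]⟩
    exact hb144.dvd_of_dvd_mul_left h1
  have ha' := Nat.le_of_dvd (by norm_num) ha
  have hb' := Nat.le_of_dvd (by norm_num) hb
  have h3 : a * b ≤ a * 35 := Nat.mul_le_mul_left a hb'
  rw [hab] at h3
  omega

theorem choose_seven (k : ℕ) (hk : k ≤ 7) (h2 : ¬ 2 ∣ Nat.choose 7 k) (h3 : ¬ 3 ∣ Nat.choose 7 k) :
    k = 0 ∨ k = 1 ∨ k = 3 ∨ k = 4 ∨ k = 6 ∨ k = 7 := by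
  revert h2 h3
  interval_cases k <;> decide

/-- Package STRUCT-SEVEN of project HA. -/
theorem lemStructSeven : Cfsg.Agent.Lib.Helper73.HA.LemStructSeven.{u} := by
  intro Ω _ _ π H hH hcard hπ
  have h2π : 2 ∈ π := (hπ 2 Nat.prime_two (by norm_num)).mpr (Or.inl rfl)
  have h3π : 3 ∈ π := (hπ 3 Nat.prime_three (by norm_num)).mpr (Or.inr rfl)
  have h5π : 5 ∉ π := fun h => by
    have h0 := (hπ 5 (by norm_num) (by norm_num)).mp h
    omega
  have h7π : 7 ∉ π := fun h => by
    have h0 := (hπ 7 (by norm_num) (by norm_num)).mp h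
    omega
  have hS : Nat.card (Perm Ω) = 5040 := by
    rw [Nat.card_perm, Nat.card_eq_fintype_card, hcard]; rfl
  have hmul : Nat.card H * H.index = 5040 := by rw [Subgroup.card_mul_index, hS]
  have h5 : ¬ 5 ∣ Nat.card H := fun h => h5π (hH.1 5 (by norm_num) h)
  have h7 : ¬ 7 ∣ Nat.card H := fun h => h7π (hH.1 7 (by norm_num) h)
  have i2 : ¬ 2 ∣ H.index := hH.2 2 Nat.prime_two h2π
  have i3 : ¬ 3 ∣ H.index := hH.2 3 Nat.prime_three h3π
  have hH144 : Nat.card H = 144 := arith_144 hmul h5 h7 i2 i3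
  have hne : Nonempty Ω := by
    rw [← Fintype.card_pos_iff, hcard]; norm_num
  -- not transitive
  have hntr : ¬ ∀ x y : Ω, ∃ h ∈ H, h x = y := by
    intro htr
    have h1 := Cfsg.Agent.Lib.Helper62.HT.card_dvd_of_transitive htr
    rw [hcard, hH144] at h1
    omega
  -- sizes of invariant sets
  have hsize : ∀ s : Finset Ω, (∀ h ∈ H, ∀ x, h x ∈ s ↔ x ∈ s) →
      s.card = 0 ∨ s.card = 1 ∨ s.card = 3 ∨ s.card = 4 ∨ s.card = 6 ∨ s.card = 7 := by
    intro s hs
    have c2 := hall_choose hH s hs 2 Nat.prime_two h2π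
    have c3 := hall_choose hH s hs 3 Nat.prime_three h3π
    rw [hcard] at c2 c3
    have hle : s.card ≤ 7 := by
      rw [← hcard]; exact Finset.card_le_univ s
    exact choose_seven _ hle c2 c3
  -- no fixed point
  have hnofix : ∀ ω : Ω, ¬ ∀ h ∈ H, h ω = ω := by
    intro ω hω
    have hs : ∀ h ∈ H, ∀ x, h x ∈ (Finset.univ.erase ω : Finset Ω) ↔
        x ∈ (Finset.univ.erase ω : Finset Ω) := by
      intro h hh x
      simp only [Finset.mem_erase, Finset.mem_univ, and_true]
      constructor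
      · intro h1 h2
        exact h1 (by rw [h2]; exact hω h hh)
      · intro h1 h2
        apply h1
        apply h.injective
        rw [h2, hω h hh]
    obtain ⟨H', hH', -⟩ := hall_restrict hH _ hs
    have hc6 : @Fintype.card {x // x ∈ (Finset.univ.erase ω : Finset Ω)}
        (Finset.Subtype.fintype _) = 6 := by
      rw [Fintype.card_coe, Finset.card_erase_of_mem (Finset.mem_univ ω), Finset.card_univ,
        hcard]
    have hgood := @hall_good 6 _ (Finset.Subtype.fintype _) _ π H' hc6 hH'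
    rcases hgood with hg | hg | hg | hg
    · have h23 := hg 2 3 Nat.prime_two Nat.prime_three h2π h3π (by norm_num) (by norm_num)
      omega
    · exact h5π (hg 5 (by norm_num) (by norm_num))
    · exact absurd hg.1 (by norm_num)
    · rcases hg.1 with h | h <;> omega
  -- an invariant 4-set
  have hex : ∃ s : Finset Ω, s.card = 4 ∧ ∀ h ∈ H, ∀ x, h x ∈ s ↔ x ∈ s := by
    obtain ⟨x⟩ := hne
    have hO := orb_inv (H := H) x
    have hOc : ∀ h ∈ H, ∀ y, h y ∈ (orb H x)ᶜ ↔ y ∈ (orb H x)ᶜ := by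
      intro h hh y
      rw [Finset.mem_compl, Finset.mem_compl, hO h hh y]
    have hcc : ((orb H x)ᶜ).card = 7 - (orb H x).card := by
      rw [Finset.card_compl, hcard]
    rcases hsize _ hO with h0 | h1 | h3 | h4 | h6 | h7
    · exfalso
      have hx := self_mem_orb (H := H) x
      rw [Finset.card_eq_zero] at h0
      rw [h0] at hx
      exact absurd hx (Finset.notMem_empty x)
    · exfalso
      obtain ⟨a, ha⟩ := Finset.card_eq_one.mp h1
      have hx := self_mem_orb (H := H) x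
      rw [ha, Finset.mem_singleton] at hx
      apply hnofix x
      intro h hh
      have h2 := (hO h hh x).mpr (self_mem_orb x)
      rw [ha, Finset.mem_singleton] at h2
      rw [h2, hx]
    · refine ⟨(orb H x)ᶜ, ?_, hOc⟩
      rw [hcc, h3]
    · exact ⟨orb H x, h4, hO⟩
    · exfalso
      have hc1 : ((orb H x)ᶜ).card = 1 := by rw [hcc, h6]
      obtain ⟨a, ha⟩ := Finset.card_eq_one.mp hc1
      apply hnofix a
      intro h hh
      have h2 := (hOc h hh a).mpr (by rw [ha]; exact Finset.mem_singleton_self a)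
      rw [ha, Finset.mem_singleton] at h2
      exact h2
    · exfalso
      apply hntr
      have huniv : orb H x = Finset.univ := by
        apply Finset.eq_univ_of_card
        rw [h7, hcard]
      intro y z
      exact orb_trans x y (by rw [huniv]; exact Finset.mem_univ y) z
        (by rw [huniv]; exact Finset.mem_univ z)
  obtain ⟨s, hs4, hs⟩ := hex
  refine ⟨s, hs4, ?_⟩
  have hle : H ≤ Cfsg.Agent.Lib.Helper78.HT.setStab s := fun h hh => hs h hh
  have hidx := Cfsg.Agent.Lib.Helper78.HT.index_setStab s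
  rw [hcard, hs4] at hidx
  have hmul2 : Nat.card (Cfsg.Agent.Lib.Helper78.HT.setStab s) *
      (Cfsg.Agent.Lib.Helper78.HT.setStab s).index = 5040 := by
    rw [Subgroup.card_mul_index, hS]
  rw [hidx] at hmul2
  have h35 : Nat.choose 7 4 = 35 := by decide
  rw [h35] at hmul2
  have hcard2 : Nat.card (Cfsg.Agent.Lib.Helper78.HT.setStab s) = 144 := by omega
  have heq : H = Cfsg.Agent.Lib.Helper78.HT.setStab s :=
    Subgroup.eq_of_le_of_card_ge hle (by rw [hcard2, hH144])
  intro g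
  rw [heq]
  exact Cfsg.Agent.Lib.Helper78.HT.mem_setStab

end Cfsg.Agent.Lib.Helper27.HA
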